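import Cfsg.Agent.H376.PrimeOrd
import Cfsg.Agent.H341.ThreeList_m3
import Cfsg.Agent.Prune
set_option linter.all false
prune_inst 0x7f00000000000000000000000000000000000000000000000000000000000000000000000000000000000000000000000000000000000000000000000000000000000000000000000000000000000000003fffffffffffffffffffffffffffbeffbdffffffff
open scoped Cfsg.Agent.FastGrp

/-!
# Elements of `PSL_n(q)` in Singer cycles (helper361, TEAM SPEC-ALT)

* `exists_of_named` : `m ∣ q ^ n - 1` prime to `q - 1`: an element of order `m` of `PSL_n(q)`.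
-/

set_option autoImplicit false

namespace Cfsg.Agent.H361.Alt

open Cfsg Cfsg.Agent.OrdDiv Cfsg.Agent.H436

universe u

theorem center_pow_card {F : Type} [Field F] [Fintype F] {n : ℕ}
    (x : Matrix.SpecialLinearGroup (Fin n) F) (hx : x ∈ Subgroup.center (Matrix.SpecialLinearGroup (Fin n) F)) :
    x ^ (Nat.card F - 1) = 1 := by
  rcases Nat.eq_zero_or_pos n with rfl | hn
  · exact Subsingleton.elim _ _
  obtain ⟨r, hr, hrx⟩ := Matrix.SpecialLinearGroup.mem_center_iff.1 hx
  have hr0 : r ≠ 0 := by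
    rintro rfl
    rw [Fintype.card_fin, zero_pow hn.ne'] at hr
    exact zero_ne_one hr
  have h1 : r ^ (Nat.card F - 1) = 1 := by
    rw [Nat.card_eq_fintype_card]
    exact FiniteField.pow_card_sub_one_eq_one r hr0
  apply Subtype.ext
  rw [Matrix.SpecialLinearGroup.coe_pow, Matrix.SpecialLinearGroup.coe_one, ← hrx, ← map_pow, h1, map_one]

theorem exists_psl {F : Type} [Field F] [Fintype F] (n : ℕ) (hn : n ≠ 0) (m : ℕ)
    (hm : m ∣ Nat.card F ^ n - 1) (hq : Nat.Coprime (Nat.card F - 1) m) :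
    ∃ x : Matrix.ProjectiveSpecialLinearGroup (Fin n) F, orderOf x = m := by
  obtain ⟨A, hA⟩ := Cfsg.Agent.H376.PrimeOrd.exists_SL (F := F) n hn m hm hq
  exact ⟨_, Cfsg.Agent.H376.PrimeOrd.orderOf_mk (Subgroup.center (Matrix.SpecialLinearGroup (Fin n) F))
    (z := Nat.card F - 1) (fun x hx => center_pow_card x hx) hq A hA⟩

/-- **Elements of Singer cycles.** -/
theorem exists_of_named {S : Type u} [Group S] {n q : ℕ} (h : IsNamed (.psl n q) S) (hn : n ≠ 0) (m : ℕ)
    (hm : m ∣ q ^ n - 1) (hq : Nat.Coprime (q - 1) m) : ∃ x : S, orderOf x = m := by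
  obtain ⟨F, _, _, hF, ⟨e⟩⟩ := h.real
  obtain ⟨x, hx⟩ := exists_psl (F := F) n hn m (by rwa [Nat.card_eq_fintype_card, hF])
    (by rwa [Nat.card_eq_fintype_card, hF])
  exact ⟨e.symm x, by rw [MulEquiv.orderOf_eq, hx]⟩

/-- `L₅(3)` : 121 -/
theorem psl_5_3 {S : Type u} [Group S] (h : IsNamed (.psl 5 3) S) : ∃ x : S, orderOf x = 121 :=
  exists_of_named h (by norm_num) 121 (by norm_num) (by norm_num)

/-- `L₆(3)` : 91 -/
theorem psl_6_3 {S : Type u} [Group S] (h : IsNamed (.psl 6 3) S) : ∃ x : S, orderOf x = 91 :=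
  exists_of_named h (by norm_num) 91 (by norm_num) (by norm_num)

/-- `L₃(9)` : 91 -/
theorem psl_3_9 {S : Type u} [Group S] (h : IsNamed (.psl 3 9) S) : ∃ x : S, orderOf x = 91 :=
  exists_of_named h (by norm_num) 91 (by norm_num) (by norm_num)

/-- `L₂(64)` : 65 -/
theorem psl_2_64 {S : Type u} [Group S] (h : IsNamed (.psl 2 64) S) : ∃ x : S, orderOf x = 65 :=
  exists_of_named h (by norm_num) 65 (by norm_num) (by norm_num)

end Cfsg.Agent.H361.Alt
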