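import Cfsg.Agent.SuzThree.NormAct
import Cfsg.Agent.H812.SuzSeven_m3
import Cfsg.Agent.H316.Final
import Cfsg.Agent.H603.SporElim
import Cfsg.Agent.H149.Sp.Quot
import Cfsg.Agent.Prune
set_option linter.all false
prune_inst 0x7f00000000000000000000000000000000000000000000000000000000000000000000000000000000000000000000000000000000000000000000000000000000000000000000000000000000000000003fffffffffffffffffffffffffffbeffbdffffffff
open scoped Cfsg.Agent.FastGrp

/-!
# The Suzuki sporadic group: `3^5 : 11`, no elements of order 35 (helper361, TEAM SPEC-ALT)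
-/

set_option autoImplicit false

namespace Cfsg.Agent.H361.Alt.SuzF

open Subgroup Cfsg

universe u

section

open Cfsg.Spor Cfsg.Agent.SuzThree.Elementary Cfsg.Agent.SuzThree.NormElts Cfsg.Agent.SuzThree.NormAct
  Cfsg.Agent.SuzThree.Elts

theorem a0_three : IsPGroup 3 A0 := fun a => ⟨1, Subtype.ext (by
  rw [pow_one]
  exact cube_A0 a.2)⟩

theorem card_suz : Nat.card Suz = 448345497600 := Cfsg.Agent.H812.SuzSeven.card_Suz

theorem finite_suz : Finite Suz := Nat.finite_of_card_ne_zero (by rw [card_suz]; norm_num)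

theorem eleven_dvd : 11 ∣ Nat.card NA := by
  have := finite_suz
  have h1 := Subgroup.card_eq_card_quotient_mul_card_subgroup (A0.subgroupOf NA)
  have h2 : Nat.card (NA ⧸ A0.subgroupOf NA) = 7920 := NotCT.Orders.m11 isoM11
  rw [h1, h2]
  exact (by norm_num : 11 ∣ 7920).mul_right _

/-- `3^5 : 11` -/
theorem exists_eleven : ∃ y : Suz, orderOf y = 11 ∧ y ∈ normalizer (A0 : Set Suz) ∧
    ∀ i : ℕ, ¬ 11 ∣ i → ∃ a ∈ A0, ¬ Commute (y ^ i) a := by
  have := finite_suz
  have h11 : Fact (Nat.Prime 11) := ⟨by norm_num⟩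
  obtain ⟨y, hy⟩ := exists_prime_orderOf_dvd_card' (G := NA) 11 eleven_dvd
  refine ⟨y, by rw [Subgroup.orderOf_coe, hy], y.2, ?_⟩
  intro i hi
  by_contra hcon
  push Not at hcon
  have h1 : ∀ f : Ix, (y ^ i) • f = f := by
    intro f
    apply smul_eq
    left
    have h2 : Commute ((y : Suz) ^ i) (x f) := hcon _ (x_mem f)
    change ((y ^ i : NA) : Suz) * x f * ((y ^ i : NA) : Suz)⁻¹ = x f
    exact mul_inv_eq_iff_eq_mul.2 h2.eq
  have h3 : ((y ^ i : NA) : Suz) ∈ A0 := mem_of_fix (h1 _) (h1 _) (h1 _) (h1 _)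
  have h4 := cube_A0 h3
  have h5 : (y : Suz) ^ (i * 3) = 1 := by
    rw [pow_mul]
    exact h4
  have h6 := orderOf_dvd_of_pow_eq_one h5
  rw [Subgroup.orderOf_coe, hy] at h6
  rcases (Nat.Prime.dvd_mul (by norm_num)).1 h6 with h7 | h7
  · exact hi h7
  · exact absurd h7 (by norm_num)

end

/-- `3^5 : 11` in a group isomorphic to `Suz` -/
theorem mov {S : Type u} [Group S] (h : Spor.IsoSuz S) : ∃ (A : Subgroup S) (y : S), IsPGroup 3 A ∧ orderOf y = 11 ∧
    y ∈ normalizer (A : Set S) ∧ ∃ a ∈ A, ¬ Commute y a := by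
  obtain ⟨e⟩ := h
  obtain ⟨y, hy, hn, hc⟩ := exists_eleven
  obtain ⟨a, ha, hya⟩ := hc 1 (by norm_num)
  rw [pow_one] at hya
  refine ⟨Cfsg.Agent.SuzThree.Elementary.A0.comap e.toMonoidHom, e.symm y, ?_, by rw [MulEquiv.orderOf_eq, hy], ?_,
    e.symm a, ?_, ?_⟩
  · exact a0_three.comap_of_injective e.toMonoidHom e.injective
  · rw [mem_normalizer_iff]
    intro z
    have h1 := (mem_normalizer_iff.1 hn) (e z)
    simp only [mem_comap, MulEquiv.coe_toMonoidHom, map_mul, map_inv, MulEquiv.apply_symm_apply]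
    exact h1
  · rw [mem_comap]
    simpa using ha
  · intro h
    apply hya
    have := h.map e
    simpa using this

/-- `C(7) = 7 × A₄`: no elements of order 35 -/
theorem no_35 {S : Type u} [Group S] [Finite S] (h : Spor.IsoSuz S) (s : S) : orderOf s ≠ 5 * 7 := by
  intro hs
  have hc := NotCT.Orders.suz h
  have hf : Fact (Nat.Prime 7) := ⟨by norm_num⟩
  have h7 : orderOf (s ^ 5) = 7 := by
    rw [orderOf_pow_of_dvd (by norm_num) (by rw [hs]; norm_num), hs]
  have h5 : orderOf (s ^ 7) = 5 := by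
    rw [orderOf_pow_of_dvd (by norm_num) (by rw [hs]; norm_num), hs]
  obtain ⟨P, hP⟩ := H149.Sp.Eng.exists_sylow (s := 7) (by norm_num) (by rw [hc]; norm_num) h7
  obtain ⟨⟨e⟩, -⟩ := Cfsg.Agent.H812.SuzSeven.main h P
  have h2 : s ^ 7 ∈ centralizer ((P : Subgroup S) : Set S) := by
    rw [hP, mem_centralizer_iff]
    intro y hy
    obtain ⟨k, rfl⟩ := mem_zpowers_iff.1 (show y ∈ zpowers (s ^ 5) from hy)
    have h3 : Commute (s ^ 5) (s ^ 7) := (Commute.refl s).pow_pow 5 7
    exact (h3.zpow_left k).eq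
  have h3 : 5 ∣ Nat.card (centralizer ((P : Subgroup S) : Set S)) := by
    rw [← h5, ← Subgroup.orderOf_mk _ h2]
    exact orderOf_dvd_natCard _
  rw [Nat.card_congr e.toEquiv, Nat.card_prod] at h3
  have h4 : Nat.card (Multiplicative (ZMod 7)) = 7 := by simp
  have h6 : Nat.card (alternatingGroup (Fin 4)) = 12 := by
    rw [nat_card_alternatingGroup]; simp [Nat.factorial]
  rw [h4, h6] at h3
  norm_num at h3

end Cfsg.Agent.H361.Alt.SuzF
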